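import Cfsg.Agent.Lib.StrongFusion.Chain
import Cfsg.Prelude.Def_ConjugacyFunctors
import Cfsg.Prelude.Def_Amalgam

/-!
Weak closure relative to a conjugacy functor containing the centre: reduction to the case of a normal `p`-subgroup.
-/

set_option autoImplicit false
set_option linter.unusedSectionVars false

namespace CfsgLib.WeakClosed

open CfsgLib Cfsg CfsgLib.StrongFusion
open scoped Pointwise

variable {G : Type*} [Group G] [Finite G] {p : ℕ} [hp : Fact p.Prime]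

theorem exists_full_in {H T U : Subgroup G} (hTH : T ≤ H) (hT : IsPGroup p T) (hidx : ¬ p ∣ T.relIndex H)
    (hU : U ≤ T) :
    ∃ y ∈ H, cm y (T ⊓ Subgroup.normalizer (U : Set G)) ≤ T ∧
      ¬ p ∣ (T ⊓ Subgroup.normalizer (cm y U : Set G)).relIndex (H ⊓ Subgroup.normalizer (cm y U : Set G)) := by
  set P : Sylow p H := (hT.of_equiv (Subgroup.subgroupOfEquivOfLe hTH).symm).toSylow hidx
  have hP : (P : Subgroup H) = T.subgroupOf H := rfl
  obtain ⟨y, hy, hfull⟩ := exists_full P (U := U.subgroupOf H) (Subgroup.comap_mono hU)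
  have hn : ∀ X : Subgroup G, X ≤ H →
      Subgroup.normalizer (X.subgroupOf H : Set H) = (H ⊓ Subgroup.normalizer (X : Set G)).subgroupOf H := by
    intro X hX
    ext z
    simp only [Subgroup.mem_subgroupOf, Subgroup.mem_inf, Subgroup.mem_normalizer_iff]
    refine ⟨fun h => ⟨z.2, fun n => ?_⟩, fun h n => h.2 (n : G)⟩
    constructor
    · intro hnX; exact (h ⟨n, hX hnX⟩).1 hnX
    · intro hnX
      have hnH : n ∈ H := by
        have := H.mul_mem (H.mul_mem (H.inv_mem z.2) (hX hnX)) z.2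
        rwa [show (z : G)⁻¹ * ((z : G) * n * (z : G)⁻¹) * z = n by group] at this
      exact (h ⟨n, hnH⟩).2 hnX
  refine ⟨y, y.2, ?_, ?_⟩
  · rintro _ ⟨t, ht, rfl⟩
    exact hy ⟨⟨t, hTH ht.1⟩, ⟨ht.1, by rw [hn U (hU.trans hTH)]; exact ⟨hTH ht.1, ht.2⟩⟩, rfl⟩
  · intro hd
    refine hfull ?_
    have hyU : cm y (U.subgroupOf H) = (cm (y : G) U).subgroupOf H := by
      ext z
      rw [Subgroup.mem_subgroupOf, mem_cm, mem_cm, Subgroup.mem_subgroupOf]
      rfl
    have hle : cm (y : G) U ≤ H := by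
      rintro _ ⟨u, hu, rfl⟩
      exact mul_mem (mul_mem y.2 (hTH (hU hu))) (inv_mem y.2)
    rw [hyU, hn _ hle, hP]
    have e : T.subgroupOf H ⊓ (H ⊓ Subgroup.normalizer (cm (y : G) U : Set G)).subgroupOf H =
        (T ⊓ Subgroup.normalizer (cm (y : G) U : Set G)).subgroupOf H := by
      ext z
      simp only [Subgroup.mem_inf, Subgroup.mem_subgroupOf]
      exact ⟨fun h => ⟨h.1, h.2.2⟩, fun h => ⟨h.1, z.2, h.2⟩⟩
    rw [e, Subgroup.relIndex_subgroupOf inf_le_left]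
    exact hd

theorem lt_inf_normalizer' {T U : Subgroup G} (hT : IsPGroup p T) (hU : U ≤ T) (hne : U ≠ T) :
    U < T ⊓ Subgroup.normalizer (U : Set G) := by
  obtain ⟨P, hP⟩ := hT.exists_le_sylow
  haveI := hT.isNilpotent
  refine lt_of_le_of_ne (le_inf hU Subgroup.le_normalizer) fun h => ?_
  have hlt : U.subgroupOf T < ⊤ :=
    lt_of_le_of_ne le_top fun e => hne (le_antisymm hU (Subgroup.subgroupOf_eq_top.1 e))
  obtain ⟨x, hx1, hx2⟩ := SetLike.exists_of_lt
    (Group.normalizerCondition_of_isNilpotent (U.subgroupOf T) hlt)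
  refine hx2 (Subgroup.mem_subgroupOf.2 (h.ge ⟨x.2, Subgroup.mem_normalizer_iff.2 fun n => ?_⟩))
  constructor
  · exact fun hn => (Subgroup.mem_normalizer_iff.1 hx1 ⟨n, hU hn⟩).1 hn
  · intro hn
    have hnT : n ∈ T := by
      have h1 := mul_mem (mul_mem (inv_mem x.2) (hU hn)) x.2
      rwa [show (x : G)⁻¹ * ((x : G) * n * (x : G)⁻¹) * x = n by group] at h1
    exact (Subgroup.mem_normalizer_iff.1 hx1 ⟨n, hnT⟩).2 hn

/-- The hypothesis at a normal `p`-subgroup. -/
def Core (p : ℕ) (W : Subgroup G → Subgroup G) (A₀ M T₀ : Subgroup G) : Prop :=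
  ∀ H T : Subgroup G, T ≤ T₀ → T₀ ⊓ Subgroup.centralizer (T₀ : Set G) ≤ T → T ≤ H → IsPGroup p T → ¬ p ∣ T.relIndex H → A₀ ≤ pCoreOf p H →
    T ≤ Subgroup.centralizer (A₀ : Set G) → ¬ H ≤ Subgroup.normalizer (W T : Set G) → T ≤ M →
    H ⊓ Subgroup.normalizer (W T : Set G) ≤ M → (∀ K : Subgroup G, T ≤ K → K < H → K ≤ M) → H ≤ M

theorem le_pCoreOf {H U : Subgroup G} (hUH : U ≤ H) (hU : IsPGroup p U) (hn : H ≤ Subgroup.normalizer (U : Set G)) :
    U ≤ pCoreOf p H := by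
  haveI : (U.subgroupOf H).Normal := (Subgroup.normal_subgroupOf_iff_le_normalizer hUH).2 hn
  rw [← Subgroup.map_subgroupOf_eq_of_le hUH]
  exact Subgroup.map_mono (CfsgLib.le_pCore (hU.of_equiv (Subgroup.subgroupOfEquivOfLe hUH).symm))

theorem pCoreOf_le {H T : Subgroup G} (hTH : T ≤ H) (hT : IsPGroup p T) (hidx : ¬ p ∣ T.relIndex H) :
    pCoreOf p H ≤ T := by
  set P : Sylow p H := (hT.of_equiv (Subgroup.subgroupOfEquivOfLe hTH).symm).toSylow hidx
  exact (Subgroup.map_mono (pCore_le_sylow P)).trans (Subgroup.map_subgroupOf_eq_of_le hTH).le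

/-- A conjugate of `A₀` inside `T` is obtained by an element of `M`. -/
theorem weakly_closed (W : Subgroup G → Subgroup G) (hW : IsConjugacyFunctor p W)
    (hWZ : ∀ P : Subgroup G, IsPGroup p P → P ⊓ Subgroup.centralizer (P : Set G) ≤ W P)
    {A₀ M T₀ : Subgroup G} (hA₀M : M ≤ Subgroup.normalizer (A₀ : Set G)) (hcore : Core p W A₀ M T₀)
    {H T : Subgroup G} (hT₀ : T ≤ T₀) (hZ₀ : T₀ ⊓ Subgroup.centralizer (T₀ : Set G) ≤ T) (hTH : T ≤ H) (hT : IsPGroup p T) (hidx : ¬ p ∣ T.relIndex H) (hA₀T : A₀ ≤ T)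
    (hTc : T ≤ Subgroup.centralizer (A₀ : Set G)) (hN : H ⊓ Subgroup.normalizer (W T : Set G) ≤ M) :
    ∀ h ∈ H, cm h A₀ ≤ T → h ∈ M := by
  induction hn : Nat.card H using Nat.strong_induction_on generalizing H T with
  | h n ih =>
  subst hn
  have hWn : ∀ {Q : Subgroup G}, Q ≤ T → ∀ n ∈ Subgroup.normalizer (Q : Set G),
      n ∈ Subgroup.normalizer (W Q : Set G) := fun {Q} hQ n hn =>
    Local.mem_normalizer_of_map_conj_eq (by
      rw [← (hW Q (hT.to_le hQ)).2.2 n, Local.map_conj_eq_of_mem_normalizer hn])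
  have hA₀W : ∀ {Q : Subgroup G}, Q ≤ T → A₀ ≤ Q → A₀ ≤ W Q := fun {Q} hQ hA =>
    (le_inf hA (Subgroup.le_centralizer_iff.1 (hQ.trans hTc))).trans (hWZ Q (hT.to_le hQ))
  have hTM : T ≤ M := fun t ht => hN ⟨hTH ht, hWn le_rfl t (Subgroup.le_normalizer ht)⟩
  have hsub : ∀ K : Subgroup G, T ≤ K → K < H → ∀ k ∈ K, cm k A₀ ≤ T → k ∈ M := fun K hTK hKH =>
    ih _ (lt_of_le_of_ne (Subgroup.card_le_of_le hKH.le) fun e => hKH.ne (Subgroup.eq_of_le_of_card_ge hKH.le e.ge))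
      hT₀ hZ₀ hTK hT (fun hd => hidx (hd.trans (by
        rw [← Subgroup.relIndex_mul_relIndex T K H hTK hKH.le]; exact dvd_mul_right _ _)))
      hA₀T hTc (le_trans (inf_le_inf_right _ hKH.le) hN) rfl
  suffices main : ∀ k, ∀ A ≤ T, A₀ ≤ A → Nat.card T - Nat.card A = k → ∀ g ∈ H, cm g A ≤ T → g ∈ M from
    fun h hh hle => main _ A₀ hA₀T le_rfl rfl h hh hle
  intro k
  induction k using Nat.strong_induction_on with
  | h k ihA =>
  intro A hAT hA hk g hg hgA
  subst hk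
  have big : ∀ B ≤ T, A₀ ≤ B → Nat.card A < Nat.card B → ∀ y ∈ H, cm y B ≤ T → y ∈ M := fun B hB hB0 hc y hy hyB =>
    ihA _ (by have := Subgroup.card_le_of_le hB; omega) B hB hB0 rfl y hy hyB
  by_cases hAeq : A = T
  · subst hAeq
    exact hN ⟨hg, hWn le_rfl g (Local.mem_normalizer_of_map_conj_eq
      (Subgroup.eq_of_le_of_card_ge hgA (card_cm g _).ge))⟩
  have hA₀n : ∀ U ≤ T, A₀ ≤ T ⊓ Subgroup.normalizer (U : Set G) := fun U hU a ha =>
    ⟨hA₀T ha, Local.mem_normalizer_of_map_conj_eq (cm_eq_self fun u hu => by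
      rw [(hTc (hU hu)) a ha, mul_inv_cancel_right])⟩
  have R : ∀ m, ∀ U ≤ T, A₀ ≤ U → Nat.card A ≤ Nat.card ↥(T ⊓ Subgroup.normalizer (U : Set G)) →
      ¬ p ∣ (T ⊓ Subgroup.normalizer (U : Set G)).relIndex (H ⊓ Subgroup.normalizer (U : Set G)) →
      Nat.card T - Nat.card ↥(T ⊓ Subgroup.normalizer (U : Set G)) = m →
      ∀ n ∈ H ⊓ Subgroup.normalizer (U : Set G), n ∈ M := by
    intro m
    induction m using Nat.strong_induction_on with
    | h m ihm =>
    intro U hU hU0 hcard hfull hm n hn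
    set TU := T ⊓ Subgroup.normalizer (U : Set G) with hTU
    set L := H ⊓ Subgroup.normalizer (U : Set G) with hL
    have hTUT : TU ≤ T := inf_le_left
    have hTUL : TU ≤ L := inf_le_inf_right _ hTH
    by_cases hLH : L = H
    · have hHU : H ≤ Subgroup.normalizer (U : Set G) := hLH.ge.trans inf_le_right
      have hUc : A₀ ≤ pCoreOf p H := hU0.trans (le_pCoreOf (hU.trans hTH) (hT.to_le hU) hHU)
      by_cases hnorm : H ≤ Subgroup.normalizer (W T : Set G)
      · exact hN ⟨hn.1, hnorm hn.1⟩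
      refine hcore H T hT₀ hZ₀ hTH hT hidx hUc hTc hnorm hTM hN (fun K hTK hKH k hk => ?_) hn.1
      refine hsub K hTK hKH k hk ((cm_mono hUc).trans ?_)
      rintro _ ⟨a, ha, rfl⟩
      refine pCoreOf_le hTH hT hidx ?_
      obtain ⟨a, ha', rfl⟩ := ha
      exact ⟨⟨k, hKH.le hk⟩ * a * ⟨k, hKH.le hk⟩⁻¹, (inferInstance : (Cfsg.pCore p H).Normal).conj_mem a ha' _, rfl⟩
    have hlt : L < H := lt_of_le_of_ne inf_le_left hLH
    have hnA : cm n A₀ ≤ TU := (cm_mono hU0).trans (le_of_eq_of_le (Local.map_conj_eq_of_mem_normalizer hn.2)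
      (le_inf hU Subgroup.le_normalizer))
    refine ih _ (lt_of_le_of_ne (Subgroup.card_le_of_le hlt.le) fun e => hlt.ne (Subgroup.eq_of_le_of_card_ge hlt.le e.ge))
      (hTUT.trans hT₀) (fun z hz => ⟨hZ₀ hz, Local.mem_normalizer_of_map_conj_eq (cm_eq_self fun u hu => by
        rw [← hz.2 u (hT₀ (hU hu)), mul_inv_cancel_right])⟩) hTUL (hT.to_le hTUT) hfull (hA₀n U hU) (hTUT.trans hTc) ?_ rfl n hn hnA
    intro l hl
    by_cases hTU' : TU = T
    · exact hN ⟨hl.1.1, by rw [← hTU']; exact hl.2⟩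
    set U' := W TU with hU'
    have hU'T : U' ≤ TU := (hW TU (hT.to_le hTUT)).1
    set T' := T ⊓ Subgroup.normalizer (U' : Set G) with hT'
    have hlt' : TU < T' := (lt_inf_normalizer' hT hTUT hTU').trans_le
      (le_inf inf_le_left fun x hx => hWn hTUT x hx.2)
    have hltc : Nat.card TU < Nat.card T' :=
      lt_of_le_of_ne (Subgroup.card_le_of_le hlt'.le) fun h => hlt'.ne (Subgroup.eq_of_le_of_card_ge hlt'.le h.ge)
    obtain ⟨y, hyH, hy, hyfull⟩ := exists_full_in hTH hT hidx (hU'T.trans hTUT)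
    have hU'0 : A₀ ≤ U' := hA₀W hTUT (hA₀n U hU)
    have hyM : y ∈ M := big T' inf_le_left ((hA₀n U hU).trans hlt'.le) (by omega) y hyH hy
    have hyT' := cm_inf_normalizer_le y hy
    have hlt2 : Nat.card TU < Nat.card ↥(T ⊓ Subgroup.normalizer (cm y U' : Set G)) := by
      have := card_cm y T' ▸ Subgroup.card_le_of_le hyT'
      omega
    have hlH : l ∈ H := hl.1.1
    have hyl : y * l * y⁻¹ ∈ H ⊓ Subgroup.normalizer (cm y U' : Set G) := by
      refine Subgroup.mem_inf.2 ⟨mul_mem (mul_mem hyH hlH) (inv_mem hyH), Local.mem_normalizer_of_map_conj_eq ?_⟩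
      show cm (y * l * y⁻¹) (cm y U') = cm y U'
      rw [cm_cm, show y * l * y⁻¹ * y = y * l by group, ← cm_cm]
      exact congrArg (cm y) (Local.map_conj_eq_of_mem_normalizer hl.2)
    have h1 := ihm (Nat.card T - Nat.card ↥(T ⊓ Subgroup.normalizer (cm y U' : Set G))) (by
        have := Subgroup.card_le_of_le (inf_le_left : T ⊓ Subgroup.normalizer (cm y U' : Set G) ≤ T)
        omega)
      (cm y U') ((cm_mono (le_inf (hU'T.trans hTUT) Subgroup.le_normalizer)).trans hy)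
      ((Local.map_conj_eq_of_mem_normalizer (hA₀M hyM)).ge.trans (cm_mono hU'0))
      (by omega) hyfull rfl _ hyl
    have := mul_mem (mul_mem (inv_mem hyM) h1) hyM
    rwa [show y⁻¹ * (y * l * y⁻¹) * y = l by group] at this
  have hlarge : ∀ C ≤ T, Nat.card C = Nat.card A → Nat.card A < Nat.card ↥(T ⊓ Subgroup.normalizer (C : Set G)) := by
    intro C hC hc
    have hne : C ≠ T := fun h => hAeq (Subgroup.eq_of_le_of_card_ge hAT (by rw [← hc, h]))
    have h := lt_inf_normalizer' hT hC hne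
    rw [← hc]
    exact lt_of_le_of_ne (Subgroup.card_le_of_le h.le) fun e => h.ne (Subgroup.eq_of_le_of_card_ge h.le e.ge)
  obtain ⟨y₁, hy₁H, hy₁, hVfull⟩ := exists_full_in hTH hT hidx hAT
  have hy₁M : y₁ ∈ M := big _ inf_le_left (hA₀n A hAT) (hlarge A hAT rfl) y₁ hy₁H hy₁
  set V := cm y₁ A with hV
  have hVT : V ≤ T := (cm_mono (le_inf hAT Subgroup.le_normalizer)).trans hy₁
  have hV0 : A₀ ≤ V := (Local.map_conj_eq_of_mem_normalizer (hA₀M hy₁M)).ge.trans (cm_mono hA)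
  set TB := T ⊓ Subgroup.normalizer (cm g A : Set G) with hTB
  set z := y₁ * g⁻¹ with hz
  have hzB : cm z (cm g A) = V := by rw [cm_cm, hz, inv_mul_cancel_right]
  have hzH : z ∈ H := mul_mem hy₁H (inv_mem hg)
  obtain ⟨w, hw, hwT⟩ := exists_conj_le (Q := T ⊓ Subgroup.normalizer (V : Set G)) (inf_le_inf_right _ hTH)
    (hT.to_le inf_le_left) hVfull (R := cm z TB)
    (le_inf ((cm_mono (inf_le_left.trans hTH)).trans (Local.map_conj_le fun x hx => mul_mem (mul_mem hzH hx) (inv_mem hzH)))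
      (Local.map_conj_le fun x hx => Local.mem_normalizer_of_map_conj_eq (by
        show cm (z * x * z⁻¹) V = V
        rw [← hzB, cm_cm, show z * x * z⁻¹ * z = z * x by group, ← cm_cm]
        exact congrArg (cm z) (Local.map_conj_eq_of_mem_normalizer hx.2))))
    ((hT.to_le inf_le_left).map _)
  have hwz : w * z ∈ M := big TB inf_le_left (hA₀n _ hgA) (hlarge _ hgA (card_cm g A)) _ (mul_mem hw.1 hzH)
    (by rw [← cm_cm]; exact hwT.trans inf_le_left)
  have hwM : w ∈ M := R _ V hVT hV0 (by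
      have := hlarge V hVT (card_cm y₁ A); omega) hVfull rfl w hw
  have h := mul_mem (inv_mem hwz) (mul_mem hwM hy₁M)
  rwa [show (w * z)⁻¹ * (w * y₁) = g by rw [hz]; group] at h

end CfsgLib.WeakClosed
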