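import Cfsg.Agent.Lib.WeakClosed.Reduce
import Cfsg.Agent.Lib.KInf.Degree
import Cfsg.Agent.Lib.ConjProduct
import Cfsg.Agent.Lib.StrongFusion.LocalFree
import Mathlib.Algebra.Polynomial.Eval.Defs
import Mathlib.Algebra.Polynomial.AlgebraMap
import Mathlib.Algebra.Module.ZMod
import Mathlib.Algebra.CharP.Lemmas

/-!
The two ways in which an element outside `O_p` forces a central element to be fixed: degree `p - 1` on chief factors,
or quadratic action for `p`-th powers.
-/

set_option autoImplicit false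
set_option linter.unusedSectionVars false

namespace CfsgLib.WeakClosed

open CfsgLib Cfsg CfsgLib.StrongFusion CfsgLib.KInf
open scoped Pointwise commutatorElement IsMulCommutative

variable {G : Type*} [Group G] [Finite G] {p : ℕ} [hp : Fact p.Prime]

/-- A weakly closed subgroup generated by a class of elements has a proper normalizer. -/
theorem top_le_of_normalClosure (P : Sylow p G) {M : Subgroup G}
    (hproper : ∀ K : Subgroup G, (P : Subgroup G) ≤ K → K ≠ ⊤ → K ≤ M) {g : G} (hg : g ∈ (P : Subgroup G))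
    (hgQ : g ∉ pCore p G) (hN : Subgroup.normalClosure ({g} : Set G) ≤ M) : (⊤ : Subgroup G) ≤ M := by
  set N := Subgroup.normalClosure ({g} : Set G)
  set D := (P : Subgroup G) ⊓ N
  have hDn : ¬ D.Normal := fun h => hgQ (le_pCore (hN := h) (P.2.to_le inf_le_left)
    ⟨hg, Subgroup.subset_normalClosure rfl⟩)
  set K := Subgroup.normalizer (D : Set G)
  have hPK : (P : Subgroup G) ≤ K := fun x hx => Local.mem_normalizer_of_map_conj_eq
    (Subgroup.eq_of_le_of_card_ge (Local.map_conj_le fun d hd =>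
      Subgroup.mem_inf.2 ⟨mul_mem (mul_mem hx hd.1) (inv_mem hx),
        (inferInstance : N.Normal).conj_mem d hd.2 x⟩) (card_cm x D).ge)
  have hKM : K ≤ M := hproper K hPK fun e => hDn (Subgroup.normalizer_eq_top_iff.1 e)
  intro x _
  have hidx : ¬ p ∣ D.relIndex N := StrongFusion.not_dvd_relIndex_inf (N := ⊤) le_top P.2
    (by rw [Subgroup.relIndex_top_right]; exact P.not_dvd_index) le_top
    fun y _ c hc => (inferInstance : N.Normal).conj_mem c hc y
  obtain ⟨m, hm, hmD⟩ := exists_conj_le (Q := D) inf_le_right (P.2.to_le inf_le_left) hidx (R := cm x D)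
    (Local.map_conj_le fun d hd => (inferInstance : N.Normal).conj_mem d hd.2 x) ((P.2.to_le inf_le_left).map _)
  rw [cm_cm] at hmD
  have h1 : m * x ∈ M := hKM (Local.mem_normalizer_of_map_conj_eq
    (Subgroup.eq_of_le_of_card_ge hmD (card_cm _ D).ge))
  have := mul_mem (inv_mem (hN hm)) h1
  rwa [inv_mul_cancel_left] at this

theorem zpowers_le_centralizer_of_mem {x : G} {M : Subgroup G} (h : M ≤ Subgroup.centralizer ({x} : Set G)) :
    M ≤ Subgroup.normalizer (Subgroup.zpowers x : Set G) := fun m hm =>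
  Local.mem_normalizer_of_map_conj_eq (cm_eq_self fun a ha => by
    obtain ⟨k, rfl⟩ := Subgroup.mem_zpowers_iff.1 ha
    rw [((Commute.zpow_right (show Commute m x from Subgroup.mem_centralizer_singleton_iff.1 (h hm)) k)).eq,
      mul_inv_cancel_right])

theorem quad_conj {V : Subgroup G} [V.Normal] {g : G}
    (hq : ⁅⁅V, Subgroup.zpowers g⁆, Subgroup.zpowers g⁆ = ⊥) {v : G} (hv : v ∈ V) :
    g * ⁅g, v⁆ * g⁻¹ = ⁅g, v⁆ := by
  have h1 : dl g 2 v = 1 := Subgroup.mem_bot.1 (hq.le (dl_mem_iterCommutator hv 2))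
  have h2 := commutatorElement_eq_one_iff_mul_comm.1 (show ⁅g, ⁅g, v⁆⁆ = 1 from h1)
  rw [h2, mul_inv_cancel_right]

theorem quad_pow {V : Subgroup G} [V.Normal] {g : G} (hq : ⁅⁅V, Subgroup.zpowers g⁆, Subgroup.zpowers g⁆ = ⊥)
    {v : G} (hv : v ∈ V) (n : ℕ) : g ^ n * v * (g ^ n)⁻¹ = ⁅g, v⁆ ^ n * v := by
  induction n with
  | zero => simp
  | succ n ih =>
    rw [show g ^ (n + 1) * v * (g ^ (n + 1))⁻¹ = g * (g ^ n * v * (g ^ n)⁻¹) * g⁻¹ by rw [pow_succ']; group, ih,
      show g * (⁅g, v⁆ ^ n * v) * g⁻¹ = g * ⁅g, v⁆ ^ n * g⁻¹ * (⁅g, v⁆ * v) by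
        simp only [commutatorElement_def]; group,
      ← conj_pow, quad_conj hq hv, ← mul_assoc, ← pow_succ]

/-- Quadratic elements centralize `p`-th powers, so those powers are fixed. -/
theorem top_le_of_quadratic (P : Sylow p G) {V A₀ M : Subgroup G} [hV : V.Normal] (hVQ : pCore p G ≤ Subgroup.centralizer (V : Set G))
    (hVc : ∀ a ∈ V, ∀ b ∈ V, a * b = b * a) (hVp : IsPGroup p V)
    (hA : A₀ ≤ Subgroup.closure ((fun v => v ^ p) '' (V : Set G))) (hM : Subgroup.centralizer (A₀ : Set G) ≤ M)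
    (hproper : ∀ K : Subgroup G, (P : Subgroup G) ≤ K → K ≠ ⊤ → K ≤ M) {g : G} (hg : g ∈ (P : Subgroup G))
    (hgQ : g ∉ pCore p G) (hq : ⁅⁅V, Subgroup.zpowers g⁆, Subgroup.zpowers g⁆ = ⊥) : (⊤ : Subgroup G) ≤ M := by
  -- a power of `g` whose `p`-th power acts trivially
  obtain ⟨k, hk⟩ := P.2 ⟨g, hg⟩
  have hk' : g ^ p ^ k = 1 := by simpa using congrArg Subtype.val hk
  classical
  set C := Subgroup.centralizer (V : Set G)
  obtain ⟨s, hs, hsQ, hsp, hsq⟩ : ∃ s ∈ (P : Subgroup G), s ∉ pCore p G ∧ s ^ p ∈ C ∧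
      ⁅⁅V, Subgroup.zpowers s⁆, Subgroup.zpowers s⁆ = ⊥ := by
    by_cases hgC : g ∈ C
    · exact ⟨g, hg, hgQ, pow_mem hgC p, hq⟩
    have hex : ∃ i, g ^ p ^ i ∈ C := ⟨k, by rw [hk']; exact one_mem _⟩
    have h0 : Nat.find hex ≠ 0 := fun h => hgC (by have := Nat.find_spec hex; rwa [h, pow_zero, pow_one] at this)
    obtain ⟨i, hi⟩ := Nat.exists_eq_succ_of_ne_zero h0
    have hsC := Nat.find_min hex (m := i) (by omega)
    have h1 := Nat.find_spec hex
    rw [hi, pow_succ, pow_mul] at h1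
    have hle : Subgroup.zpowers (g ^ p ^ i) ≤ Subgroup.zpowers g := Subgroup.zpowers_le.2 (pow_mem (Subgroup.mem_zpowers g) _)
    exact ⟨g ^ p ^ i, pow_mem hg _, fun h => hsC (hVQ h), h1,
      le_bot_iff.1 ((Subgroup.commutator_mono (Subgroup.commutator_mono le_rfl hle) hle).trans hq.le)⟩
  refine top_le_of_normalClosure P hproper hs hsQ (le_trans ?_ hM)
  -- `s` centralizes all `p`-th powers
  have hcen : ∀ v ∈ V, s * v ^ p = v ^ p * s := by
    intro v hv
    have hd : ⁅s, v⁆ ∈ V := by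
      rw [commutatorElement_def]; exact mul_mem (hV.conj_mem v hv s) (inv_mem hv)
    have h1 := quad_pow hsq hv p
    rw [show s ^ p * v * (s ^ p)⁻¹ = v by rw [← hsp v hv, mul_inv_cancel_right], eq_comm, mul_eq_right] at h1
    have h2 : s * v ^ p * s⁻¹ = v ^ p := by
      rw [← conj_pow, show s * v * s⁻¹ = ⁅s, v⁆ * v by simp only [commutatorElement_def]; group,
        (show Commute ⁅s, v⁆ v from hVc _ hd _ hv).mul_pow, h1, one_mul]
    exact mul_inv_eq_iff_eq_mul.1 h2
  set D := Subgroup.closure ((fun v => v ^ p) '' (V : Set G))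
  have hDn : D.Normal := ⟨fun d hd x => by
    refine Subgroup.closure_induction (p := fun d _ => x * d * x⁻¹ ∈ D) ?_ ?_ ?_ ?_ hd
    · rintro _ ⟨v, hv, rfl⟩
      exact Subgroup.subset_closure ⟨x * v * x⁻¹, hV.conj_mem v hv x, conj_pow⟩
    · simp
    · intro a b _ _ ha hb
      rw [show x * (a * b) * x⁻¹ = x * a * x⁻¹ * (x * b * x⁻¹) by group]
      exact mul_mem ha hb
    · intro a _ ha
      rw [show x * a⁻¹ * x⁻¹ = (x * a * x⁻¹)⁻¹ by group]
      exact inv_mem ha⟩
  refine Subgroup.normalClosure_le_normal (N := Subgroup.centralizer (D : Set G)) ?_ |>.trans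
    (Subgroup.centralizer_le (SetLike.coe_subset_coe.2 hA))
  rw [Set.singleton_subset_iff]
  have : D ≤ Subgroup.centralizer {s} := (Subgroup.closure_le _).2 (by
    rintro _ ⟨v, hv, rfl⟩
    exact Subgroup.mem_centralizer_singleton_iff.2 (hcen v hv).symm)
  exact fun d hd => Subgroup.mem_centralizer_singleton_iff.1 (this hd)

/-- A `p`-chief factor has exponent `p`. -/
theorem pow_mem_of_chief {U V : Subgroup G} (hUV : IsChiefFactor U V) (hU : IsPGroup p U) {u : G} (hu : u ∈ U) :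
    u ^ p ∈ V := by
  obtain ⟨hlt, hUn, hVn, hchief⟩ := hUV
  haveI := hUn
  haveI := hVn
  have hc := commutator_le_of_abelian (commutator_le_of_chief hU ⟨hlt, hUn, hVn, hchief⟩ le_rfl)
  set π := QuotientGroup.mk' V
  haveI hWn : (U.map π).Normal := Subgroup.Normal.map inferInstance π (QuotientGroup.mk'_surjective V)
  let M : Subgroup (G ⧸ V) :=
    { carrier := {a | a ∈ U.map π ∧ a ^ p = 1}
      one_mem' := ⟨one_mem _, one_pow _⟩
      mul_mem' := fun {a b} ha hb => ⟨mul_mem ha.1 hb.1, by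
        rw [(show Commute a b from hc a ha.1 b hb.1).mul_pow, ha.2, hb.2, one_mul]⟩
      inv_mem' := fun {a} ha => ⟨inv_mem ha.1, by rw [inv_pow, ha.2, inv_one]⟩ }
  haveI hMn : M.Normal := ⟨fun a ha n => ⟨hWn.conj_mem a ha.1 n, by rw [conj_pow, ha.2]; group⟩⟩
  have hM : M ≠ ⊥ := by
    intro e
    have hne : U.map π ≠ ⊥ := fun e => hlt.not_ge (le_iff_map_eq_bot.2 e)
    haveI : Nontrivial (U.map π) := (Subgroup.nontrivial_iff_ne_bot _).2 hne
    obtain ⟨k, hk, hc'⟩ := (hU.map π).nontrivial_iff_card.1 inferInstance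
    obtain ⟨⟨a, ha⟩, hao⟩ := exists_prime_orderOf_dvd_card' (G := U.map π) p (hc' ▸ dvd_pow_self p (by omega))
    rw [Subgroup.orderOf_mk] at hao
    have h1 : a = 1 := Subgroup.mem_bot.1 (e.le ⟨ha, hao ▸ pow_orderOf_eq_one a⟩)
    rw [h1, orderOf_one] at hao
    exact hp.out.one_lt.ne hao
  rcases hchief (M.comap π) (hMn.comap π) (fun v hv => ⟨by
      rw [show π v = 1 from (QuotientGroup.eq_one_iff v).2 hv]; exact one_mem _, by
      rw [show π v = 1 from (QuotientGroup.eq_one_iff v).2 hv]; exact one_pow _⟩)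
    (by
      intro v hv
      obtain ⟨w, hw, e⟩ := hv.1
      have h := mul_mem hw (hlt.le (QuotientGroup.eq.1 e))
      rwa [mul_inv_cancel_left] at h) with h | h
  · exfalso
    refine hM ?_
    rw [← Subgroup.map_comap_eq_self_of_surjective (QuotientGroup.mk'_surjective V) M, h]
    exact le_iff_map_eq_bot.1 le_rfl
  · exact (QuotientGroup.eq_one_iff _).1 (by
      show π (u ^ p) = 1
      rw [map_pow]; exact (h.ge hu).2)

/-- In exponent `p`, the sum of the first `p` iterates is the `(p - 1)`-st iterated difference. -/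
theorem sum_iterate_eq {A : Type*} [AddCommGroup A] [Module (ZMod p) A] (D : Module.End (ZMod p) A) (y : A) :
    ∑ i ∈ Finset.range p, (D ^ i) y = ((D - 1) ^ (p - 1)) y := by
  have hpoly : (∑ i ∈ Finset.range p, (Polynomial.X : Polynomial (ZMod p)) ^ i) = (Polynomial.X - 1) ^ (p - 1) := by
    apply mul_right_cancel₀ (Polynomial.X_sub_C_ne_zero (1 : ZMod p))
    rw [Polynomial.C_1, geom_sum_mul, ← pow_succ, Nat.sub_add_cancel hp.out.one_le, sub_pow_char, one_pow]
  have h := congrArg (fun q => Polynomial.aeval D q) hpoly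
  simp only [map_sum, map_pow, map_sub, map_one, Polynomial.aeval_X] at h
  rw [← h, LinearMap.sum_apply]

theorem sum_iterate_eq_zero {A : Type*} [AddCommGroup A] (hA : ∀ a : A, p • a = 0) (f : A →+ A) (y : A)
    (h : (fun a => f a - a)^[p - 1] y = 0) : ∑ i ∈ Finset.range p, f^[i] y = 0 := by
  let _inst : Module (ZMod p) A := AddCommGroup.zmodModule hA
  have h3 := sum_iterate_eq (p := p) (A := A) (f.toZModLinearMap p) y
  simp only [Module.End.pow_apply] at h3
  exact h3.trans h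

/-- The product of the first `p` conjugates under an element of degree `p - 1` is trivial. -/
theorem prod_conj_eq_one {W : Subgroup G} [W.Normal] [IsMulCommutative W]
    (hexp : ∀ a ∈ W, a ^ p = 1) {s y : G} (hy : y ∈ W) (hdeg : ∀ w ∈ W, dl s (p - 1) w = 1) :
    ∏ i ∈ Finset.range p, (⟨s ^ i * y * (s ^ i)⁻¹, ‹W.Normal›.conj_mem y hy _⟩ : W) = 1 := by
  set f : Additive W →+ Additive W := MonoidHom.toAdditive (MulAut.conjNormal (H := W) s).toMonoidHom
  have hf : ∀ (i : ℕ) (w : W), f^[i] (Additive.ofMul w) = Additive.ofMul (MulAut.conjNormal (H := W) (s ^ i) w) := by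
    intro i w
    induction i with
    | zero => simp
    | succ i ih => rw [Function.iterate_succ_apply', ih, pow_succ', map_mul]; rfl
  have hd : ∀ (k : ℕ) (w : W), (fun a => f a - a)^[k] (Additive.ofMul w) =
      Additive.ofMul (⟨dl s k w, dl_mem s w.2 k⟩ : W) := by
    intro k w
    induction k with
    | zero => rfl
    | succ k ih =>
      rw [Function.iterate_succ_apply', ih]
      show Additive.ofMul (MulAut.conjNormal (H := W) s ⟨dl s k w, _⟩ / ⟨dl s k w, _⟩) = _
      congr 1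
      apply Subtype.ext
      rw [Subgroup.coe_div, MulAut.conjNormal_apply, div_eq_mul_inv]
      show s * dl s k w * s⁻¹ * (dl s k w)⁻¹ = dl s (k + 1) w
      rw [dl_succ, commutatorElement_def]
  have h := sum_iterate_eq_zero (p := p) (A := Additive W) (fun a => by
    show Additive.ofMul ((Additive.toMul a) ^ p) = Additive.ofMul 1
    exact congrArg _ (Subtype.ext (hexp _ (Additive.toMul a).2))) f (Additive.ofMul ⟨y, hy⟩) (by
      rw [hd, show (⟨dl s (p - 1) y, dl_mem s hy _⟩ : W) = 1 from Subtype.ext (hdeg y hy)]; rfl)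
  rw [Finset.sum_congr rfl fun i _ => hf i _, ← ofMul_prod] at h
  exact (Finset.prod_congr rfl fun i _ => Subtype.ext (by rw [MulAut.conjNormal_apply])).trans
    (Additive.ofMul.injective h)

/-- Degree `p - 1` on the chief factors inside `Vz`. -/
def Good (p : ℕ) (Vz : Subgroup G) (s : G) : Prop :=
  ∀ U V : Subgroup G, IsChiefFactor U V → U ≤ Vz → ∀ u ∈ U, dl s (p - 1) u ∈ V

theorem dl_conj (m s : G) (k : ℕ) (u : G) : dl (m * s * m⁻¹) k (m * u * m⁻¹) = m * dl s k u * m⁻¹ := by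
  have h := map_dl (MulAut.conj m).toMonoidHom s k u
  exact h.symm

theorem Good.conj {Vz : Subgroup G} {s : G} (h : Good p Vz s) (m : G) : Good p Vz (m * s * m⁻¹) := by
  intro U V hUV hU u hu
  have hu' : m⁻¹ * u * m ∈ U := by simpa using hUV.2.1.conj_mem u hu m⁻¹
  rw [show u = m * (m⁻¹ * u * m) * m⁻¹ by group, dl_conj]
  exact hUV.2.2.1.conj_mem _ (h U V hUV hU _ hu') m

/-- The trace argument. -/
theorem top_le_of_degree (P : Sylow p G) {Vz : Subgroup G} [hV : Vz.Normal] (hVp : IsPGroup p Vz)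
    (hVc : ∀ a ∈ Vz, ∀ b ∈ Vz, a * b = b * a) {x : G} (hx : x ∈ Vz)
    (hPx : (P : Subgroup G) ≤ Subgroup.centralizer ({x} : Set G))
    (hproper : ∀ K : Subgroup G, (P : Subgroup G) ≤ K → K ≠ ⊤ → K ≤ Subgroup.centralizer ({x} : Set G))
    {g : G} (hg : g ∈ (P : Subgroup G)) (hgQ : g ∉ pCore p G) (hgood : Good p Vz g) :
    (⊤ : Subgroup G) ≤ Subgroup.centralizer ({x} : Set G) := by
  classical
  haveI : IsMulCommutative Vz := ⟨⟨fun a b => Subtype.ext (hVc a a.2 b b.2)⟩⟩
  set M := Subgroup.centralizer ({x} : Set G)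
  set E : Set G := {s | s ∈ (P : Subgroup G) ∧ Good p Vz s}
  set X := Subgroup.closure E with hXdef
  have hXP : X ≤ (P : Subgroup G) := (Subgroup.closure_le _).2 fun s hs => hs.1
  have hgX : g ∈ X := Subgroup.subset_closure ⟨hg, hgood⟩
  have hcl : ∀ m : G, cm m X ≤ (P : Subgroup G) → cm m X = X := fun m hm => by
    refine Subgroup.eq_of_le_of_card_ge (Subgroup.map_le_iff_le_comap.2 ((Subgroup.closure_le _).2 fun s hs => ?_))
      (card_cm m X).ge
    exact Subgroup.subset_closure ⟨hm (conj_mem_cm (Subgroup.subset_closure hs)), hs.2.conj m⟩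
  set K := Subgroup.normalizer (X : Set G)
  have hPK : (P : Subgroup G) ≤ K := fun t ht => Local.mem_normalizer_of_map_conj_eq (hcl t
    (Local.map_conj_le fun s hs => mul_mem (mul_mem ht (hXP hs)) (inv_mem ht)))
  have hKM : K ≤ M := hproper K hPK fun e => hgQ (le_pCore (hN := Subgroup.normalizer_eq_top_iff.1 e)
    (P.2.to_le hXP) hgX)
  set xV : Vz := ⟨x, hx⟩
  set Ω := ConjProduct.orb (⊤ : Subgroup G) xV
  -- the fixed points of `X` on the conjugates
  have hfix : ∀ v ∈ Ω, (∀ t ∈ X, MulAut.conjNormal t v = v) → v = xV := by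
    intro v hv hfixv
    obtain ⟨t, -, rfl⟩ := ConjProduct.mem_orb.1 hv
    have hle : cm t⁻¹ X ≤ M := by
      rintro _ ⟨s, hs, rfl⟩
      have h := congrArg Subtype.val (hfixv s hs)
      rw [MulAut.conjNormal_apply, MulAut.conjNormal_apply] at h
      refine Subgroup.mem_centralizer_singleton_iff.2 (mul_inv_eq_iff_eq_mul.1 ?_)
      show t⁻¹ * s * t⁻¹⁻¹ * x * (t⁻¹ * s * t⁻¹⁻¹)⁻¹ = x
      have h' : s * (t * x * t⁻¹) * s⁻¹ = t * x * t⁻¹ := h
      calc _ = t⁻¹ * (s * (t * x * t⁻¹) * s⁻¹) * t := by group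
        _ = x := by rw [h']; group
    obtain ⟨m, hm, hmP⟩ := exists_conj_le (Q := (P : Subgroup G)) hPx P.2
      (fun hd => P.not_dvd_index (hd.trans (Subgroup.relIndex_dvd_index_of_le hPx))) hle ((P.2.to_le hXP).map _)
    rw [cm_cm] at hmP
    have h1 : m * t⁻¹ ∈ M := hKM (Local.mem_normalizer_of_map_conj_eq (hcl _ hmP))
    have h2 : t⁻¹ ∈ M := by
      have := mul_mem (inv_mem hm) h1
      rwa [inv_mul_cancel_left] at this
    have h3 : t * x = x * t := Subgroup.mem_centralizer_singleton_iff.1 (inv_inv t ▸ inv_mem h2)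
    exact Subtype.ext (by
      rw [MulAut.conjNormal_apply]
      show t * x * t⁻¹ = x
      rw [h3, mul_inv_cancel_right])
  suffices main : ∀ k, ∀ W : Subgroup G, W.Normal → W ≤ Vz → Nat.card W = k →
      (∀ v ∈ Ω, ((v * xV⁻¹ : Vz) : G) ∈ W) → (⊤ : Subgroup G) ≤ M from
    main _ Vz hV le_rfl rfl fun v _ => Subtype.property _
  intro k
  induction k using Nat.strong_induction_on with
  | h k ih =>
  intro W hW hWV hWk hin
  haveI := hW
  rcases eq_or_ne W ⊥ with rfl | hW0
  · intro t _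
    have h := Subgroup.mem_bot.1 (hin _ (ConjProduct.mem_orb.2 ⟨t, Subgroup.mem_top t, rfl⟩))
    have h' : t * x * t⁻¹ * x⁻¹ = 1 := by simpa [xV] using h
    exact Subgroup.mem_centralizer_singleton_iff.2 (commutatorElement_eq_one_iff_mul_comm.1
      (show ⁅t, x⁆ = 1 by rw [commutatorElement_def]; exact h'))
  obtain ⟨W', -, hWW⟩ := exists_chief_between (U := W) (W := ⊥) (bot_lt_iff_ne_bot.2 hW0)
  haveI := hWW.2.2.1
  set π := QuotientGroup.mk' W'
  have hsur := QuotientGroup.mk'_surjective W'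
  haveI : (W.map π).Normal := Subgroup.Normal.map inferInstance π hsur
  have hWbc : ∀ a ∈ W.map π, ∀ b ∈ W.map π, a * b = b * a := by
    rintro _ ⟨a, ha, rfl⟩ _ ⟨b, hb, rfl⟩
    rw [← map_mul, ← map_mul, hVc a (hWV ha) b (hWV hb)]
  haveI : IsMulCommutative (W.map π) := ⟨⟨fun a b => Subtype.ext (hWbc a a.2 b b.2)⟩⟩
  let F : Vz →* G ⧸ W' := π.comp Vz.subtype
  -- invariant sets without fixed points contribute nothing
  have hzero : ∀ s : Finset Vz, s ⊆ Ω → (∀ t ∈ X, ∀ v ∈ s, MulAut.conjNormal t v ∈ s) → xV ∉ s →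
      F (∏ v ∈ s, v * xV⁻¹) = 1 := by
    intro s
    induction s using Finset.strongInduction with
    | H s ihs =>
    intro hsΩ hs hxs
    rcases s.eq_empty_or_nonempty with rfl | ⟨w, hw⟩
    · rw [Finset.prod_empty, map_one]
    have hsub := ConjProduct.orb_subset hw hs
    rw [← Finset.prod_sdiff hsub, map_mul, ihs _ (Finset.sdiff_ssubset hsub ⟨w, ConjProduct.self_mem_orb X w⟩)
      (Finset.sdiff_subset.trans hsΩ) (fun t ht v hv => ConjProduct.stable_sdiff hs ht hv)
      (fun h => hxs (Finset.mem_sdiff.1 h).1), one_mul]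
    have hmove : ∃ t ∈ X, MulAut.conjNormal t w ≠ w := by
      by_contra hc
      push Not at hc
      exact hxs (hfix w (hsΩ hw) hc ▸ hw)
    obtain ⟨M', hM'X, hst, hM'n, hM'i⟩ := ConjProduct.exists_step (P.2.to_le hXP) hmove
    haveI := hM'n
    obtain ⟨a, haE, haM⟩ : ∃ a ∈ E, a ∉ M' := by
      by_contra hc
      push Not at hc
      obtain ⟨t, ht, htw⟩ := hmove
      have h1 : M'.subgroupOf X = ⊤ := Subgroup.subgroupOf_eq_top.2 ((Subgroup.closure_le _).2 hc)
      rw [h1, Subgroup.index_top] at hM'i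
      exact hp.out.one_lt.ne hM'i
    obtain ⟨hcard, hprod⟩ := ConjProduct.prod_orb_step (w := w) hM'X hst hM'i (Subgroup.subset_closure haE) haM
    set O := ConjProduct.orb M' w
    set y : Vz := ∏ v ∈ O, v * xV⁻¹
    have hyW : (y : G) ∈ W := by
      have hmem : ∀ v ∈ O, v * xV⁻¹ ∈ W.subgroupOf Vz := fun v hv => hin v (hsΩ (hsub (by
        obtain ⟨t, ht, rfl⟩ := ConjProduct.mem_orb.1 hv
        exact ConjProduct.mem_orb.2 ⟨t, hM'X ht, rfl⟩)))
      exact (Subgroup.prod_mem _ hmem : y ∈ W.subgroupOf Vz)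
    have hax : ∀ i : ℕ, MulAut.conjNormal (a ^ i) xV = xV := fun i => Subtype.ext (by
      rw [MulAut.conjNormal_apply]
      show a ^ i * x * (a ^ i)⁻¹ = x
      rw [Subgroup.mem_centralizer_singleton_iff.1 (pow_mem (hPx haE.1) i), mul_inv_cancel_right])
    have hrw : (∏ v ∈ ConjProduct.orb X w, v * xV⁻¹) = ∏ i ∈ Finset.range p, MulAut.conjNormal (a ^ i) y := by
      rw [Finset.prod_mul_distrib, Finset.prod_const, hcard, hprod, mul_comm p, pow_mul]
      rw [show (xV⁻¹ ^ O.card) ^ p = ∏ _i ∈ Finset.range p, xV⁻¹ ^ O.card by rw [Finset.prod_const, Finset.card_range],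
        ← Finset.prod_mul_distrib]
      refine Finset.prod_congr rfl fun i _ => ?_
      show _ = MulAut.conjNormal (a ^ i) (∏ v ∈ O, v * xV⁻¹)
      rw [Finset.prod_mul_distrib, Finset.prod_const, map_mul, map_pow (MulAut.conjNormal (a ^ i) : MulAut Vz),
        map_inv (MulAut.conjNormal (a ^ i) : MulAut Vz), hax i]
    rw [hrw]
    have hWp : IsPGroup p W := hVp.to_le hWV
    have hdeg : ∀ q ∈ W.map π, dl (π a) (p - 1) q = 1 := by
      rintro _ ⟨q, hq, rfl⟩
      rw [← map_dl]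
      exact (QuotientGroup.eq_one_iff _).2 (haE.2 W W' hWW hWV q hq)
    have hexp : ∀ q ∈ W.map π, q ^ p = 1 := by
      rintro _ ⟨q, hq, rfl⟩
      rw [← map_pow]
      exact (QuotientGroup.eq_one_iff _).2 (pow_mem_of_chief hWW hWp hq)
    have h := congrArg Subtype.val (prod_conj_eq_one hexp (Subgroup.mem_map_of_mem π hyW) hdeg)
    have hrhs : ∀ i : ℕ, F (MulAut.conjNormal (a ^ i) y) = π a ^ i * π y * (π a ^ i)⁻¹ := fun i => by
      show π ((MulAut.conjNormal (a ^ i) y : Vz) : G) = _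
      rw [MulAut.conjNormal_apply, map_mul, map_mul, map_inv, map_pow]
    have hagree : ∀ n : ℕ, F (∏ i ∈ Finset.range n, MulAut.conjNormal (a ^ i) y) =
        ((∏ i ∈ Finset.range n, (⟨π a ^ i * π y * (π a ^ i)⁻¹, (‹(W.map π).Normal›).conj_mem _
          (Subgroup.mem_map_of_mem π hyW) _⟩ : W.map π) : W.map π) : G ⧸ W') := by
      intro n
      induction n with
      | zero => simp
      | succ n ihn => rw [Finset.prod_range_succ, Finset.prod_range_succ, map_mul, ihn, hrhs, Subgroup.coe_mul]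
    rw [hagree]
    exact h
  -- the norm of `x`
  set r : Vz := ∏ v ∈ Ω, v * xV⁻¹
  have hxΩ : xV ∈ Ω := ConjProduct.self_mem_orb _ _
  have hFr : F r = 1 := by
    rw [show r = (∏ v ∈ Ω.erase xV, v * xV⁻¹) from
      (Finset.prod_erase Ω (f := fun v => v * xV⁻¹) (mul_inv_cancel xV)).symm]
    refine hzero _ (Finset.erase_subset _ _) (fun t ht v hv => ?_) (Finset.notMem_erase _ _)
    rw [Finset.mem_erase] at hv ⊢
    refine ⟨fun e => hv.1 ((MulAut.conjNormal t : MulAut Vz).injective (e.trans (Subtype.ext ?_))),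
      ConjProduct.conj_mem_orb hv.2 (Subgroup.mem_top t)⟩
    rw [MulAut.conjNormal_apply]
    show x = t * x * t⁻¹
    rw [Subgroup.mem_centralizer_singleton_iff.1 (hPx (hXP ht)), mul_inv_cancel_right]
  -- the number of conjugates is prime to `p`
  have hΩcard : Ω.card = M.index := by
    rw [Subgroup.index_eq_card, ← Nat.card_eq_finsetCard]
    refine (Nat.card_congr (Equiv.ofBijective (fun q : G ⧸ M =>
      (⟨MulAut.conjNormal q.out xV, ConjProduct.mem_orb.2 ⟨_, Subgroup.mem_top _, rfl⟩⟩ : Ω)) ⟨fun q q' e => ?_, fun v => ?_⟩)).symm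
    · rw [← q.out_eq, ← q'.out_eq]
      refine QuotientGroup.eq.2 (Subgroup.mem_centralizer_singleton_iff.2 ?_)
      have e1 : q.out * x * (q.out)⁻¹ = q'.out * x * (q'.out)⁻¹ := by
        simpa [xV] using congrArg (fun r : Ω => (((r : Vz) : G))) e
      generalize q.out = a at e1
      generalize q'.out = b at e1
      calc a⁻¹ * b * x = a⁻¹ * (b * x * b⁻¹) * b := by group
        _ = a⁻¹ * (a * x * a⁻¹) * b := by rw [e1]
        _ = _ := by group
    · obtain ⟨v, hv⟩ := v
      obtain ⟨u, -, rfl⟩ := ConjProduct.mem_orb.1 hv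
      obtain ⟨c, hc⟩ := QuotientGroup.mk_out_eq_mul M u
      refine ⟨QuotientGroup.mk u, Subtype.ext (Subtype.ext ?_)⟩
      simp only [MulAut.conjNormal_apply, hc]
      show u * c * x * (u * c)⁻¹ = u * x * u⁻¹
      have := Subgroup.mem_centralizer_singleton_iff.1 c.2
      calc u * c * x * (u * c)⁻¹ = u * ((c : G) * x) * (c : G)⁻¹ * u⁻¹ := by group
        _ = _ := by rw [this]; group
  have hcop : ¬ p ∣ Ω.card := by
    rw [hΩcard]
    exact fun hd => P.not_dvd_index (hd.trans (Subgroup.index_dvd_of_le hPx))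
  refine ih _ ?_ W' hWW.2.2.1 (hWW.1.le.trans hWV) rfl fun v hv => ?_
  · rw [← hWk]
    exact lt_of_le_of_ne (Subgroup.card_le_of_le hWW.1.le) fun e => hWW.1.ne (Subgroup.eq_of_le_of_card_ge hWW.1.le e.ge)
  obtain ⟨t, -, rfl⟩ := ConjProduct.mem_orb.1 hv
  set d : Vz := MulAut.conjNormal t xV * xV⁻¹
  have h1 : MulAut.conjNormal t (∏ v ∈ Ω, v) = ∏ v ∈ Ω, v :=
    ConjProduct.fix_prod fun v hv => ConjProduct.conj_mem_orb hv (Subgroup.mem_top t)
  have h2 : (∏ v ∈ Ω, v) = r * xV ^ Ω.card := by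
    show _ = (∏ v ∈ Ω, v * xV⁻¹) * _
    rw [Finset.prod_mul_distrib, Finset.prod_const, inv_pow, inv_mul_cancel_right]
  rw [h2, map_mul, map_pow] at h1
  have hd : d ^ Ω.card = r * (MulAut.conjNormal t r)⁻¹ := by
    calc d ^ Ω.card = MulAut.conjNormal t r * MulAut.conjNormal t xV ^ Ω.card * (xV ^ Ω.card)⁻¹ * (MulAut.conjNormal t r)⁻¹ := by
          rw [show d ^ Ω.card = MulAut.conjNormal t xV ^ Ω.card * (xV ^ Ω.card)⁻¹ by
            rw [mul_pow, inv_pow]]
          rw [mul_comm (MulAut.conjNormal t r * _ * _), ← mul_assoc, ← mul_assoc, inv_mul_cancel, one_mul]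
      _ = _ := by rw [h1, mul_inv_cancel_right]
  have hFt : F (MulAut.conjNormal t r) = 1 := by
    show π ((MulAut.conjNormal t r : Vz) : G) = 1
    rw [MulAut.conjNormal_apply, map_mul, map_mul, show π (r : G) = 1 from hFr, mul_one, map_inv, mul_inv_cancel]
  have hFd : F d ^ Ω.card = 1 := by rw [← map_pow, hd, map_mul, map_inv, hFr, hFt, inv_one, one_mul]
  obtain ⟨j, hj⟩ := hVp d
  have hFd' : F d ^ p ^ j = 1 := by rw [← map_pow, hj, map_one]
  have : F d = 1 := orderOf_eq_one_iff.1 (Nat.Coprime.eq_one_of_dvd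
    (((hp.out.coprime_iff_not_dvd.2 hcop).pow_left j).coprime_dvd_left (orderOf_dvd_of_pow_eq_one hFd'))
    (orderOf_dvd_of_pow_eq_one hFd))
  exact (QuotientGroup.eq_one_iff _).1 this

end CfsgLib.WeakClosed
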